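import Mathlib
import Cfsg.Agent.Lib.ChTab.Rows2

/-!
Certified enumerations of principal blocks for the primes 19, 43, 73.
-/

set_option autoImplicit false

namespace CfsgLib.K4D

open CfsgLib.ChTab

/-- The shape `1 - a - b + c = 0` with inertial index three. -/
def sh3 (p a b c : ℕ) (A : Opt) : Bool :=
  A.1 == 3 && A.2.1 == 1 && A.2.2.contains (a, 1 - (p : ℤ)) && A.2.2.contains (b, 1 - (p : ℤ)) &&
    A.2.2.all fun r => r.2 == 1 - (p : ℤ) || r == (c, 3)

/-- A lower bound for the square of an integer congruent to `d` modulo 76. -/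
def ms (d : ℕ) : ℕ := min (d % 76) (76 - d % 76) * min (d % 76) (76 - d % 76)

/-- The options with 1008 Sylow 19-subgroups. -/
def bad19 (n : ℕ) (A : Opt) : Bool :=
  A.2.1 % 2 == 0 && A.2.1 % 9 != 0 && 19 * A.2.1 * A.1 * 1008 == n && A.2.2.any (·.1 == 56) &&
    Nat.blt (19 * A.2.1 * A.1) (A.2.2.map fun r => ms r.1).sum

theorem chk43 : frcN (divs 5663616 2379) (fun Ds => (allDivs 131712 362).all fun m =>
    frc (43 * m) fun n => frcN (sub Ds n) fun Ds =>
      ropts Ds n 43 (fun _ _ => true) (fun _ _ _ => true) fun A =>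
        n == 5663616 && sh3 43 42 343 384 A) = true := by decide +kernel

theorem chk73 : frcN (divs 42573600 6524) (fun Ds =>
      ropts Ds 42573600 73 (fun _ _ => true) (fun _ _ _ => true) (sh3 73 72 729 800)) = true := by
  decide +kernel

theorem chk19 : frcN (divs 5515776 2348) (fun Ds => (allDivs 290304 538).all fun m =>
    m % 64 != 0 || frc (19 * m) fun n => frcN (sub Ds n) fun Ds =>
      ropts Ds n 19 (fun _ _ => true) (fun _ _ _ => true) fun A =>
        (n == 5515776 && sh3 19 56 512 567 A) || bad19 n A) = true := by decide +kernel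

end CfsgLib.K4D
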