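import Mathlib
import Cfsg.Agent.Lib.K4D.Chk
import Cfsg.Agent.Lib.ChTab.Int
import Cfsg.Agent.Lib.ChTab.Inv

/-!
A principal block of defect one with three non-exceptional characters.
-/

set_option autoImplicit false

namespace CfsgLib.K4D

open Cfsg CfsgLib.Char CfsgLib.Block CfsgLib.DefectOne CfsgLib.DefectOne.B43 CfsgLib.Tuan
  CfsgLib.ChTab Subgroup Finset

variable {G : Type*} [Group G] [Finite G]

/-- The characters of degree `a`, `b` and `c` with `1 - a - b + c = 0`. -/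
structure B3 (p a b c : ℕ) (α β γ : IrrCharacter G) : Prop where
  dα : dg α = a
  dβ : dg β = b
  dγ : dg γ = c
  uα : ∀ χ : IrrCharacter G, dg χ = dg α → χ = α
  sc : ∀ g : G, g ≠ 1 → ¬ p ∣ orderOf g → ¬ p ∣ cC g
  sing : ∀ g : G, p ∣ orderOf g → (α : G → ℂ) g = -1 ∧ (β : G → ℂ) g = -1
  reg : ∀ g : G, ¬ p ∣ orderOf g → (γ : G → ℂ) g = (α : G → ℂ) g + (β : G → ℂ) g - 1
  pair : ∀ s : G, ¬ p ∣ orderOf s → ∃ r : ℝ, 0 ≤ r ∧ (s * s = 1 → r = 0) ∧
    1 - (α : G → ℂ) s ^ 2 / a - (β : G → ℂ) s ^ 2 / b + (γ : G → ℂ) s ^ 2 / c = r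
  vtx : 1 + a * a + b * b + (p - 1) / 3 * (c * c) = Nat.card G ∨ ∃ χ : IrrCharacter G, p ∣ dg χ

variable {p : ℕ} [hp : Fact p.Prime] {x : G} {ζ : ℂ}

theorem pairN_inv (hs : Syl p x) (hp2 : p ≠ 2) (he : Odd (ee x)) {s : G} (h1 : s * s = 1)
    (a : (ZMod p)ˣ) : pairN s s (x ^ (a : ZMod p).val) = 0 := by
  obtain ⟨ζ, -, ⟨D⟩⟩ := exists_data hs
  refine pairN_eq_zero fun u hu hu' => ?_
  have h3 : (x ^ (a : ZMod p).val)⁻¹ = x ^ ((-a : (ZMod p)ˣ) : ZMod p).val := by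
    rw [inv_eq_iff_mul_eq_one, ← pow_add, ← pow_zero x]
    exact hs.pow_eq_of_natCast_eq (by simp)
  have h4 := (isConj_pow_iff D hs a (-a)).mp (isConj_iff.mpr
    ⟨u, h3 ▸ inverts_of_pair h1 h1 hu hu' (mem_zpowers _)⟩)
  rw [mul_neg, inv_mul_cancel] at h4
  have h5 := Subgroup.orderOf_dvd_natCard _ h4
  rw [card_U D hs, ← orderOf_units, Units.val_neg, Units.val_one, orderOf_neg_one,
    ZMod.ringChar_zmod_n, if_neg hp2] at h5
  exact Nat.not_even_iff_odd.mpr he (even_iff_two_dvd.mpr h5)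

theorem exists_B3 (hx : Syl p x) (hζ : IsPrimitiveRoot ζ p) {D : PrinData p x ζ} {A : Opt}
    (hA : IsOpt D A) {a b c : ℕ} (h : sh3 p a b c A = true)
    (hn : 5 < p ∧ a ≠ 1 ∧ a ≠ b ∧ a ≠ c ∧ ¬ p ∣ a) : ∃ α β γ : IrrCharacter G, B3 p a b c α β γ := by
  classical
  have := Fintype.ofFinite G
  simp only [sh3, Bool.and_eq_true, beq_iff_eq, List.contains_iff_mem, List.all_eq_true,
    Bool.or_eq_true, hA.e, hA.k] at h
  obtain ⟨⟨⟨⟨he, hk⟩, ha⟩, hb⟩, hc⟩ := h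
  obtain ⟨n1, n2, n3, n4, n5⟩ := hn
  have hs := sc_of_kk hx hk
  have kX : ∀ {d : ℕ}, (d, 1 - (p : ℤ)) ∈ A.2.2 → ∃ χ ∈ D.X, χ ≠ irrOne G ∧ dg χ = d ∧ D.δ χ = -1 :=
    fun hd => by
      obtain ⟨χ, h1, h2⟩ := hA.exists hd
      obtain ⟨h3, h4⟩ := Prod.mk.inj h2
      obtain ⟨h5, h6 | h6⟩ := mem_Bk.1 h1
      · refine ⟨χ, h6, h5, h3, (D.δ_sign χ h6).resolve_left fun e => ?_⟩
        rw [vv_X D hx h6, e] at h4
        omega
      · rw [vv_Y D hx hζ h6, he] at h4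
        rcases D.ε_sign with e | e <;> rw [e] at h4 <;> omega
  obtain ⟨α, m1, h1, d1, e1⟩ := kX ha
  obtain ⟨β, m2, h2, d2, e2⟩ := kX hb
  have h3 : α ≠ β := fun e => n3 (d1 ▸ d2 ▸ e ▸ rfl)
  have h4 : D.X = {irrOne G, α, β} := (eq_of_subset_of_card_le (fun χ hχ => by
      simp only [mem_insert, mem_singleton] at hχ
      rcases hχ with rfl | rfl | rfl
      exacts [D.one_mem, m1, m2]) (by
    rw [D.card_X, card_U D hx, he, card_eq_three.2 ⟨_, _, _, h1.symm, h2.symm, h3, rfl⟩])).symm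
  have hY := Y_mem_Ys D 1
  have hv := vv_Y D hx hζ hY
  have h5 := (hc _ (hA.mem (mem_Bk.2 ⟨Y_ne_one D 1, Or.inr hY⟩))).resolve_left fun e => by
    change vv p x (D.Y 1) = _ at e
    rw [hv, he] at e
    rcases D.ε_sign with e' | e' <;> rw [e'] at e <;> omega
  obtain ⟨d3, h6⟩ := Prod.mk.inj h5
  have e3 : D.ε = -1 := by
    rw [hv, he] at h6
    omega
  have d4 : z0 D = c := (dg_of_mem_Ys D hY).symm.trans d3
  have rg : ∀ (i : (ZMod p)ˣ) (g : G), ¬ p ∣ orderOf g →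
      (D.Y i : G → ℂ) g = (α : G → ℂ) g + (β : G → ℂ) g - 1 := fun i g h => by
    have := D.reg_eq i g h
    rw [h4, sum_insert (by simp [h1.symm, h2.symm]), sum_pair h3, D.δ_one, e1, e2, e3] at this
    simp only [irrOne] at this
    push_cast at this
    linear_combination -this
  have sm : ∀ F : IrrCharacter G → ℂ, ∑ χ ∈ D.X ∪ Ys D, F χ =
      F (irrOne G) + (F α + F β) + ∑ χ ∈ Ys D, F χ := fun F => by
    rw [sum_union (disjoint_X_Ys D), h4, sum_insert (by simp [h1.symm, h2.symm]), sum_pair h3]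
  have ct : (Ys D).card = (p - 1) / 3 := he ▸ card_Ys D hx
  refine ⟨α, β, D.Y 1, d1, d2, d3, fun χ h => ?_,
    fun g h h' => not_dvd_cC hs h fun e => h' e.symm.dvd,
    fun g h => ⟨by simp [D.X_val α m1 g h, e1], by simp [D.X_val β m2 g h, e2]⟩, rg 1,
    fun s h => ?_, or_iff_not_imp_right.2 fun h => ?_⟩
  · rcases bz_of_sc D hs χ with h' | h' | h'
    · simp only [h4, mem_insert, mem_singleton] at h'
      rcases h' with rfl | rfl | rfl
      exacts [by rw [dg_one] at h; omega, rfl, by omega]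
    · have := dg_of_mem_Ys D h'; omega
    · exact absurd (d1 ▸ h ▸ h') n5
  · have k1 : ∑ i : (ZMod p)ˣ, (pairN s⁻¹ s⁻¹ (x ^ (i : ZMod p).val) : ℂ) =
        (Nat.card G : ℂ) / (cC s * cC s) * ∑ χ : IrrCharacter G,
          (χ : G → ℂ) s ^ 2 / (χ : G → ℂ) 1 * vv p x χ := by
      simp only [pairN_eq_sum, inv_inv, card_Ce_inv, vv_cast hx, vC, ← mul_sum]
      rw [sum_comm]
      refine congrArg _ (sum_congr rfl fun χ _ => ?_)
      rw [mul_sum]
      exact sum_congr rfl fun i _ => by ring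
    have k2 : ((p - 1) / 3 : ℕ) * (3 : ℂ) = p - 1 := by
      rw [← Nat.cast_pred hp.out.pos]
      exact_mod_cast Nat.div_mul_cancel (he ▸ ee_dvd hx)
    rw [← sum_subset (subset_univ (D.X ∪ Ys D)) fun χ _ hχ => by
        rw [mem_union, not_or] at hχ
        rw [vv_dz hx (other_deg D hs hχ.1 hχ.2), Int.cast_zero, mul_zero], sm,
      sum_congr (s₁ := Ys D) (g := fun _ => (D.Y 1 : G → ℂ) s ^ 2 / c * 3) rfl fun χ hχ => by
        rw [vv_Y D hx hζ hχ, e3, he, ← dg_cast, dg_of_mem_Ys D hχ, d4]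
        obtain ⟨i, rfl⟩ := (mem_Ys D).1 hχ
        rw [rg i s h, rg 1 s h]
        norm_num,
      sum_const, ct, nsmul_eq_mul, vv_one hx, vv_X D hx m1, vv_X D hx m2, e1, e2, ← dg_cast α,
      ← dg_cast β, d1, d2] at k1
    have p0 : (0 : ℝ) < p - 1 := by
      have : (5 : ℝ) < p := by exact_mod_cast n1
      linarith
    have p1 : (p : ℂ) - 1 ≠ 0 := by exact_mod_cast p0.ne'
    have c0 : (cC s : ℂ) ≠ 0 := card_Ce_ne_zero s
    have g0 := natCard_ne_zero (G := G)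
    refine ⟨(∑ i : (ZMod p)ˣ, pairN s⁻¹ s⁻¹ (x ^ (i : ZMod p).val) : ℕ) * (cC s * cC s) /
      (Nat.card G * (p - 1)), by positivity, fun h2 => ?_, ?_⟩
    · rw [sum_eq_zero fun i _ => pairN_inv hx (by omega) (by rw [he]; decide)
        (by rw [← mul_inv_rev, h2, inv_one]) i]
      simp
    · push_cast
      rw [k1]
      simp only [irrOne]
      push_cast
      field_simp
      linear_combination (-(D.Y 1 : G → ℂ) s ^ 2 / c) * k2
  · have h7 := sum_dg_sq (G := G)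
    rw [← sum_subset (subset_univ (D.X ∪ Ys D)) fun χ _ hχ => by
        rw [mem_union, not_or] at hχ
        exact absurd ⟨χ, other_deg D hs hχ.1 hχ.2⟩ h, sum_union (disjoint_X_Ys D), h4,
      sum_insert (by simp [h1.symm, h2.symm]), sum_pair h3, dg_one, d1, d2,
      sum_congr (g := fun _ => c * c) rfl fun χ hχ => by rw [dg_of_mem_Ys D hχ, d4],
      sum_const, ct, smul_eq_mul] at h7
    omega

end CfsgLib.K4D
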